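import Cfsg.Agent.H634.OneP.Code
import Cfsg.Agent.H417.OneP.Stable
import Cfsg.Agent.H426.OneP.Triv
import Cfsg.Agent.H590.OneP.IndexTwo
import Cfsg.Agent.H963.OneP.RankEq

/-!
# S4880, block half: the principal block when `|P| = p ^ 2`
-/

set_option autoImplicit false

open Cfsg IsLocalRing

namespace Cfsg.Agent.H634.OneP

open Cfsg.Agent.H657

universe u

variable {G : Type u} [Group G] [Finite G] {p : ℕ} [hp : Fact p.Prime] {M : Ideal AlgInt}

theorem normalTriv : H426.OneP.NormalTriv.{u} p M := by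
  intro X _ _ hM hp2 C _ P hP hPC hE ψ hψ c s s' hs hc
  exact H590.OneP.normal_triv hM hp2 C P hP hPC hE hψ c s s' hs hc

/-- **The block half of S4880.** -/
theorem main (hM : IsPModular p M) (hp2 : p ≠ 2) (P : Sylow p G) (hP : Nat.card P = p ^ 2)
    (hel : ∀ x ∈ (P : Subgroup G), x ^ p = 1) {x : G} (hx : x ∈ (P : Subgroup G)) (hx1 : x ≠ 1)
    (e : ℕ) (he : e = (Subgroup.centralizer ((P : Subgroup G) : Set G)).relIndex
      (Subgroup.normalizer ((P : Subgroup G) : Set G) ⊓ Subgroup.centralizer ({x} : Set G)))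
    (h2 : p - 1 ≤ 2 * e) :
    2 * e ≤ Nat.card (principalBlock M G) ∧
      (p % 4 = 3 → Odd e → Nat.card (principalBlock M G) ≠ 2 * e) := by
  obtain ⟨V, hV⟩ := exists_above hM
  have hxo : orderOf x = p := by
    have h1 : orderOf x ∣ p := orderOf_dvd_of_pow_eq_one (hel x hx)
    rcases (Nat.dvd_prime hp.out).1 h1 with h | h
    · exact absurd (orderOf_eq_one_iff.1 h) hx1
    · exact h
  refine code hM hV ⟨1, by rw [hxo, pow_one]⟩ hx1 (fun ψ hψ s s' hs hc => ?_) e ?_
  · refine H417.OneP.stable hM hV P hP hxo hψ (fun n hn s s' hs hss => ?_) s s' hs hc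
    exact H426.OneP.triv_of normalTriv hM hp2 P hP hel hx hx1 (by rw [← he]; exact h2) hψ hn s s' hs hss
  · rw [H963.OneP.RankEq.rank_eq hM hp2 P hP hel hx hx1, ← he]

end Cfsg.Agent.H634.OneP
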