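import Cfsg.Agent.H634.OneP.Def
import Cfsg.Agent.H648.OneP.SectionMod
import Cfsg.Agent.H973.RankMod.Indep
import Cfsg.Agent.H352.OneP.Ortho
import Cfsg.Agent.H973.RankMod.Main
import Cfsg.Agent.H25.IsoFrob

/-!
# S4880, block half: the self-orthogonal code of a `p`-section
-/

set_option autoImplicit false

open Cfsg IsLocalRing

namespace Cfsg.Agent.H634.OneP

open Cfsg.Agent.H657

universe u

/-- Sums over a block as sums over all characters. -/
theorem finsum_mem_ite {α K : Type*} [AddCommMonoid K] [Fintype α] (B : Set α) [DecidablePred (· ∈ B)]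
    (F : α → K) : ∑ᶠ χ ∈ B, F χ = ∑ χ, if χ ∈ B then F χ else 0 := by
  rw [finsum_eq_sum_of_fintype]
  refine Finset.sum_congr rfl fun χ _ => ?_
  by_cases h : χ ∈ B <;> simp [h]

variable {G : Type u} [Group G] [Finite G] {p : ℕ} [hp : Fact p.Prime] {M : Ideal AlgInt}
  {V : ValuationSubring ℂ}

theorem irr_mem (hV : Above M V) (χ : IrrCharacter G) (g : G) : (χ : G → ℂ) g ∈ V :=
  hV.mem ⟨(χ : G → ℂ) g, Blocks.Central.isIntegral_irr χ.2 g⟩

/-- **Lifting.** The reduction of a `G`-stable member of the principal block of `C_G(x)` is a combination of the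
reductions of the principal block of `G`. -/
theorem exists_lift (hM : IsPModular p M) (hV : Above M V) {x : G} (hx : ∃ k : ℕ, orderOf x = p ^ k)
    {ψ : IrrCharacter (Subgroup.centralizer ({x} : Set G))}
    (hψ : ψ ∈ principalBlock M (Subgroup.centralizer ({x} : Set G)))
    (hst : ∀ s s' : Subgroup.centralizer ({x} : Set G), ¬ p ∣ orderOf s → IsConj (s : G) (s' : G) →
      rd V (ψ : Subgroup.centralizer ({x} : Set G) → ℂ) s' =
        rd V (ψ : Subgroup.centralizer ({x} : Set G) → ℂ) s) :
    ∃ a : IrrCharacter G → ResidueField V, ∀ s : Subgroup.centralizer ({x} : Set G), ¬ p ∣ orderOf s →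
      rd V (ψ : Subgroup.centralizer ({x} : Set G) → ℂ) s =
        ∑ᶠ χ ∈ principalBlock M G, a χ * rd V (χ : G → ℂ) s := by
  classical
  have : Finite (IrrCharacter G) := Characters.Core.finite_irr
  have := Fintype.ofFinite (IrrCharacter G)
  have : Finite (IrrCharacter (Subgroup.centralizer ({x} : Set G))) := Characters.Core.finite_irr
  have := Fintype.ofFinite (IrrCharacter (Subgroup.centralizer ({x} : Set G)))
  -- the `G`-stable extension
  let f : G → ResidueField V := fun g =>
    if h : ∃ s : Subgroup.centralizer ({x} : Set G), ¬ p ∣ orderOf s ∧ IsConj (s : G) g then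
      rd V (ψ : Subgroup.centralizer ({x} : Set G) → ℂ) h.choose else 0
  have hf : ∀ g h : G, f (h * g * h⁻¹) = f g := by
    intro g h
    have hc : IsConj g (h * g * h⁻¹) := isConj_iff.2 ⟨h, rfl⟩
    by_cases h1 : ∃ s : Subgroup.centralizer ({x} : Set G), ¬ p ∣ orderOf s ∧ IsConj (s : G) g
    · have h2 : ∃ s : Subgroup.centralizer ({x} : Set G), ¬ p ∣ orderOf s ∧ IsConj (s : G) (h * g * h⁻¹) := by
        obtain ⟨s, hs, hsg⟩ := h1
        exact ⟨s, hs, hsg.trans hc⟩
      have e1 : f g = rd V (ψ : Subgroup.centralizer ({x} : Set G) → ℂ) h1.choose := dif_pos h1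
      have e2 : f (h * g * h⁻¹) = rd V (ψ : Subgroup.centralizer ({x} : Set G) → ℂ) h2.choose := dif_pos h2
      rw [e1, e2]
      exact hst _ _ h1.choose_spec.1 (h1.choose_spec.2.trans (hc.trans h2.choose_spec.2.symm))
    · have h2 : ¬ ∃ s : Subgroup.centralizer ({x} : Set G), ¬ p ∣ orderOf s ∧ IsConj (s : G) (h * g * h⁻¹) := by
        rintro ⟨s, hs, hsg⟩
        exact h1 ⟨s, hs, hsg.trans hc.symm⟩
      have e1 : f g = 0 := dif_neg h1
      have e2 : f (h * g * h⁻¹) = 0 := dif_neg h2
      rw [e1, e2]
  have hfs : ∀ s : Subgroup.centralizer ({x} : Set G), ¬ p ∣ orderOf s →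
      f s = rd V (ψ : Subgroup.centralizer ({x} : Set G) → ℂ) s := by
    intro s hs
    have h1 : ∃ s' : Subgroup.centralizer ({x} : Set G), ¬ p ∣ orderOf s' ∧ IsConj (s' : G) s :=
      ⟨s, hs, IsConj.refl _⟩
    have e1 : f s = rd V (ψ : Subgroup.centralizer ({x} : Set G) → ℂ) h1.choose := dif_pos h1
    rw [e1]
    exact hst _ _ hs h1.choose_spec.2.symm
  obtain ⟨a, ha⟩ := H963.OneP.exists_coeff hM hV f hf
  refine ⟨a, ?_⟩
  choose m hm1 hm2 using fun χ : IrrCharacter G => H648.OneP.section_mod hM hV hx χ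
  -- the reduction of the restriction
  have hres : ∀ (χ : IrrCharacter G) (s : Subgroup.centralizer ({x} : Set G)), rd V (χ : G → ℂ) s =
      ∑ ψ' : IrrCharacter (Subgroup.centralizer ({x} : Set G)), (m χ ψ' : ResidueField V) *
        rd V (ψ' : Subgroup.centralizer ({x} : Set G) → ℂ) s := by
    intro χ s
    have h1 := hm1 χ s
    rw [finsum_eq_sum_of_fintype] at h1
    have h2 : (χ : G → ℂ) s = ((∑ ψ' : IrrCharacter (Subgroup.centralizer ({x} : Set G)),
        (m χ ψ' : V) * ⟨(ψ' : Subgroup.centralizer ({x} : Set G) → ℂ) s, irr_mem hV ψ' s⟩ : V) : ℂ) := by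
      rw [h1]
      push_cast
      rfl
    rw [H352.OneP.rd_eq h2, map_sum]
    refine Finset.sum_congr rfl fun ψ' _ => ?_
    rw [map_mul, map_natCast, rd_of (irr_mem hV ψ' s)]
  let b : IrrCharacter (Subgroup.centralizer ({x} : Set G)) → ResidueField V := fun ψ' =>
    (∑ χ : IrrCharacter G, a χ * (m χ ψ' : ResidueField V)) - if ψ' = ψ then 1 else 0
  have hb : ∀ s : Subgroup.centralizer ({x} : Set G), ¬ p ∣ orderOf s →
      ∑ᶠ ψ' : IrrCharacter (Subgroup.centralizer ({x} : Set G)), b ψ' *
        rd V (ψ' : Subgroup.centralizer ({x} : Set G) → ℂ) s = 0 := by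
    intro s hs
    have hsG : ¬ p ∣ orderOf (s : G) := by rwa [Subgroup.orderOf_coe]
    have h1 := ha s hsG
    rw [hfs s hs, finsum_eq_sum_of_fintype] at h1
    rw [finsum_eq_sum_of_fintype]
    have h2 : ∑ ψ' : IrrCharacter (Subgroup.centralizer ({x} : Set G)), b ψ' *
        rd V (ψ' : Subgroup.centralizer ({x} : Set G) → ℂ) s =
        (∑ χ : IrrCharacter G, a χ * rd V (χ : G → ℂ) s) -
          rd V (ψ : Subgroup.centralizer ({x} : Set G) → ℂ) s := by
      simp only [b, sub_mul, Finset.sum_sub_distrib, ite_mul, one_mul, zero_mul, Finset.sum_ite_eq',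
        Finset.mem_univ, if_true]
      congr 1
      simp_rw [hres _ s, Finset.sum_mul, Finset.mul_sum]
      rw [Finset.sum_comm]
      refine Finset.sum_congr rfl fun χ _ => Finset.sum_congr rfl fun ψ' _ => ?_
      ring
    rw [h2, ← h1, sub_self]
  have hB := H973.RankMod.block_indep hM hV b hb Blocks.PrincipalSection.isPBlock_principalBlock
  intro s hs
  have h1 := hB s hs
  rw [finsum_mem_ite] at h1
  rw [finsum_mem_ite]
  have h2 : ∀ χ : IrrCharacter G, (∑ ψ' : IrrCharacter (Subgroup.centralizer ({x} : Set G)),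
      if ψ' ∈ principalBlock M (Subgroup.centralizer ({x} : Set G)) then (m χ ψ' : ResidueField V) *
        rd V (ψ' : Subgroup.centralizer ({x} : Set G) → ℂ) s else 0) =
      if χ ∈ principalBlock M G then rd V (χ : G → ℂ) s else 0 := by
    intro χ
    rw [← finsum_mem_ite]
    by_cases h : χ ∈ principalBlock M G
    · rw [if_pos h]
      exact (hm2 χ s hs).1 h
    · rw [if_neg h]
      exact (hm2 χ s hs).2 h
  have h3 : ∑ χ : IrrCharacter G, (if χ ∈ principalBlock M G then a χ * rd V (χ : G → ℂ) s else 0) =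
      ∑ χ : IrrCharacter G, a χ * (∑ ψ' : IrrCharacter (Subgroup.centralizer ({x} : Set G)),
        if ψ' ∈ principalBlock M (Subgroup.centralizer ({x} : Set G)) then (m χ ψ' : ResidueField V) *
          rd V (ψ' : Subgroup.centralizer ({x} : Set G) → ℂ) s else 0) := by
    refine Finset.sum_congr rfl fun χ _ => ?_
    rw [h2 χ]
    split_ifs <;> simp
  rw [h3]
  have h4 : ∑ ψ' : IrrCharacter (Subgroup.centralizer ({x} : Set G)),
      (if ψ' ∈ principalBlock M (Subgroup.centralizer ({x} : Set G)) then b ψ' *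
        rd V (ψ' : Subgroup.centralizer ({x} : Set G) → ℂ) s else 0) =
      (∑ χ : IrrCharacter G, a χ * (∑ ψ' : IrrCharacter (Subgroup.centralizer ({x} : Set G)),
        if ψ' ∈ principalBlock M (Subgroup.centralizer ({x} : Set G)) then (m χ ψ' : ResidueField V) *
          rd V (ψ' : Subgroup.centralizer ({x} : Set G) → ℂ) s else 0)) -
      rd V (ψ : Subgroup.centralizer ({x} : Set G) → ℂ) s := by
    have h5 : ∀ ψ' : IrrCharacter (Subgroup.centralizer ({x} : Set G)),
        (if ψ' ∈ principalBlock M (Subgroup.centralizer ({x} : Set G)) then b ψ' *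
          rd V (ψ' : Subgroup.centralizer ({x} : Set G) → ℂ) s else 0) =
        (∑ χ : IrrCharacter G, a χ * (if ψ' ∈ principalBlock M (Subgroup.centralizer ({x} : Set G)) then
          (m χ ψ' : ResidueField V) * rd V (ψ' : Subgroup.centralizer ({x} : Set G) → ℂ) s else 0)) -
        (if ψ' = ψ then rd V (ψ : Subgroup.centralizer ({x} : Set G) → ℂ) s else 0) := by
      intro ψ'
      by_cases h6 : ψ' ∈ principalBlock M (Subgroup.centralizer ({x} : Set G))
      · simp only [if_pos h6, b, sub_mul, Finset.sum_mul, ite_mul, one_mul, zero_mul]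
        congr 1
        · exact Finset.sum_congr rfl fun χ _ => by ring
        · by_cases h7 : ψ' = ψ
          · rw [if_pos h7, if_pos h7, h7]
          · rw [if_neg h7, if_neg h7]
      · have h7 : ψ' ≠ ψ := by
          rintro rfl
          exact h6 hψ
        simp [if_neg h6, if_neg h7]
    rw [Finset.sum_congr rfl fun ψ' _ => h5 ψ', Finset.sum_sub_distrib, Finset.sum_comm]
    simp only [Finset.sum_ite_eq', Finset.mem_univ, if_true, Finset.mul_sum]
  rw [h4] at h1
  exact (sub_eq_zero.1 h1).symm

/-- **The code.** If every member of the principal block of `C_G(x)` has a `G`-stable reduction then the principal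
block of `G` has at least `2 l` members, `l = l(B₀(C_G(x)))`, and not exactly `2 l` if `p = 3 mod 4` and `l` is odd. -/
theorem code (hM : IsPModular p M) (hV : Above M V) {x : G} (hx : ∃ k : ℕ, orderOf x = p ^ k) (hx1 : x ≠ 1)
    (hst : ∀ ψ ∈ principalBlock M (Subgroup.centralizer ({x} : Set G)),
      ∀ s s' : Subgroup.centralizer ({x} : Set G), ¬ p ∣ orderOf s → IsConj (s : G) (s' : G) →
        rd V (ψ : Subgroup.centralizer ({x} : Set G) → ℂ) s' =
          rd V (ψ : Subgroup.centralizer ({x} : Set G) → ℂ) s) (e : ℕ)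
    (he : e ≤ blockRank p (principalBlock M (Subgroup.centralizer ({x} : Set G)))) :
    2 * e ≤ Nat.card (principalBlock M G) ∧
      (p % 4 = 3 → Odd e → Nat.card (principalBlock M G) ≠ 2 * e) := by
  classical
  have : CharP (ResidueField V) p := hV.charP hM
  have : Finite (IrrCharacter G) := Characters.Core.finite_irr
  have := Fintype.ofFinite (IrrCharacter G)
  have := Fintype.ofFinite (principalBlock M G)
  have := Fintype.ofFinite {s : Subgroup.centralizer ({x} : Set G) // ¬ p ∣ orderOf s}
  let A : Matrix {s : Subgroup.centralizer ({x} : Set G) // ¬ p ∣ orderOf s} (principalBlock M G)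
    (ResidueField V) := fun s χ => rd V ((χ : IrrCharacter G) : G → ℂ) ((s : Subgroup.centralizer ({x} : Set G)) : G)
  have hsum : ∀ F : IrrCharacter G → ResidueField V,
      ∑ χ : principalBlock M G, F χ = ∑ᶠ χ ∈ principalBlock M G, F χ := by
    intro F
    rw [finsum_mem_eq_finite_toFinset_sum _ (Set.toFinite _)]
    exact (Finset.sum_subtype _ (fun χ => Set.Finite.mem_toFinset _) _).symm
  have hcard : Fintype.card (principalBlock M G) = Nat.card (principalBlock M G) :=
    Nat.card_eq_fintype_card.symm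
  rw [← hcard]
  refine H25.IsoFrob.isotropic (K := ResidueField V) (p := p) (Submodule.span (ResidueField V) (Set.range A.row))
    ?_ ?_ e ?_
  · -- isotropic
    intro v hv w hw
    induction hv using Submodule.span_induction with
    | mem v hv =>
      obtain ⟨s, rfl⟩ := hv
      induction hw using Submodule.span_induction with
      | mem w hw =>
        obtain ⟨s', rfl⟩ := hw
        have h1 := H352.OneP.ortho_mod hM hV hx hx1 s.1 s'.1 s.2 s'.2
        rw [← hsum fun χ => rd V (χ : G → ℂ) ((s.1 : Subgroup.centralizer ({x} : Set G)) : G) *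
          rd V (χ : G → ℂ) ((s'.1 : Subgroup.centralizer ({x} : Set G)) : G)] at h1
        exact h1
      | zero => simp
      | add w w' _ _ h h' =>
        simp only [Pi.add_apply, mul_add, Finset.sum_add_distrib, h, h', add_zero]
      | smul c w _ h =>
        have : ∀ b, A.row s b * (c • w) b = c * (A.row s b * w b) := fun b => by
          rw [Pi.smul_apply, smul_eq_mul]; ring
        rw [Finset.sum_congr rfl fun b _ => this b, ← Finset.mul_sum, h, mul_zero]
    | zero => simp
    | add v v' _ _ h h' =>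
      simp only [Pi.add_apply, add_mul, Finset.sum_add_distrib, h, h', add_zero]
    | smul c v _ h =>
      have : ∀ b, (c • v) b * w b = c * (v b * w b) := fun b => by
        rw [Pi.smul_apply, smul_eq_mul]; ring
      rw [Finset.sum_congr rfl fun b _ => this b, ← Finset.mul_sum, h, mul_zero]
  · -- Frobenius
    intro v hv
    induction hv using Submodule.span_induction with
    | mem v hv =>
      obtain ⟨s, rfl⟩ := hv
      refine Submodule.subset_span ⟨⟨s.1 ^ p, ?_⟩, ?_⟩
      · intro h
        exact s.2 (h.trans (orderOf_pow_dvd p))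
      · funext χ
        show rd V ((χ : IrrCharacter G) : G → ℂ) ((s.1 ^ p : Subgroup.centralizer ({x} : Set G)) : G) =
          rd V ((χ : IrrCharacter G) : G → ℂ) ((s.1 : Subgroup.centralizer ({x} : Set G)) : G) ^ p
        rw [H352.OneP.frob_mod hM hV, Subgroup.coe_pow]
    | zero =>
      have h0 : (fun b => (0 : principalBlock M G → ResidueField V) b ^ p) = 0 := by
        funext b
        simp [hp.out.ne_zero]
      rw [h0]
      exact Submodule.zero_mem _
    | add v w _ _ h h' =>
      have h0 : (fun b => (v + w) b ^ p) = (fun b => v b ^ p) + fun b => w b ^ p := by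
        funext b
        exact add_pow_char _ _ p
      rw [h0]
      exact Submodule.add_mem _ h h'
    | smul c v _ h =>
      have h0 : (fun b => (c • v) b ^ p) = c ^ p • fun b => v b ^ p := by
        funext b
        rw [Pi.smul_apply, Pi.smul_apply, smul_eq_mul, smul_eq_mul, mul_pow]
      rw [h0]
      exact Submodule.smul_mem _ _ h
  · -- the dimension
    rw [← Matrix.rank_eq_finrank_span_row, Matrix.rank_eq_finrank_span_cols]
    refine he.trans ((H973.RankMod.rank_mod hM hV).trans (Submodule.finrank_mono ?_))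
    rw [Submodule.span_le]
    rintro _ ⟨ψ, hψ, rfl⟩
    obtain ⟨a, ha⟩ := exists_lift hM hV hx hψ (hst ψ hψ)
    have h1 : (fun s : {s : Subgroup.centralizer ({x} : Set G) // ¬ p ∣ orderOf s} =>
        rd V (ψ : Subgroup.centralizer ({x} : Set G) → ℂ) s) = ∑ χ : principalBlock M G, a χ • A.col χ := by
      funext s
      rw [ha s s.2, Finset.sum_apply, ← hsum fun χ => a χ * rd V (χ : G → ℂ) ((s.1 : Subgroup.centralizer ({x} : Set G)) : G)]
      rfl
    show (fun s : {s : Subgroup.centralizer ({x} : Set G) // ¬ p ∣ orderOf s} =>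
        rd V (ψ : Subgroup.centralizer ({x} : Set G) → ℂ) s) ∈ _
    rw [h1]
    exact Submodule.sum_mem _ fun χ _ => Submodule.smul_mem _ _ (Submodule.subset_span ⟨χ, rfl⟩)

end Cfsg.Agent.H634.OneP
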