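import Cfsg.Agent.H657.IBrBlock

/-!
# S4880, block half: reduction of complex functions modulo a valuation ring
-/

set_option autoImplicit false

open Cfsg IsLocalRing

namespace Cfsg.Agent.H634.OneP

/-- The reduction of a complex function (`0` where the value is not in `V`). -/
noncomputable def rd (V : ValuationSubring ℂ) {G : Type*} (θ : G → ℂ) (g : G) : ResidueField V :=
  open Classical in if h : θ g ∈ V then residue V ⟨θ g, h⟩ else 0

theorem rd_of {V : ValuationSubring ℂ} {G : Type*} {θ : G → ℂ} {g : G} (h : θ g ∈ V) :
    rd V θ g = residue V ⟨θ g, h⟩ := by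
  unfold rd
  rw [dif_pos h]

end Cfsg.Agent.H634.OneP
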